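import Mathlib
import Groth.Prelude.Def_Tame
import Groth.Agent.Lib.Helper6.DetLenBasis
import Groth.Agent.Lib.Lead.SecOrd0

/-!
# Lattices over a one-dimensional Noetherian domain: relative length and distance (helper6)
-/

set_option autoImplicit false
set_option linter.unusedSectionVars false
set_option linter.unusedVariables false
set_option linter.unusedSimpArgs false
set_option linter.style.haveILetI false
set_option maxHeartbeats 400000

namespace Groth.Agent.Lib.Helper6.LatDist

universe u v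

open Groth.Agent.Lib.Helper6

section RL

variable {A : Type u} [CommRing A] {V : Type v} [AddCommGroup V] [Module A V]

/-- relative length `ℓ(M / (N ∩ M))` -/
noncomputable def rl (N M : Submodule A V) : ℕ∞ := Module.length A (↥M ⧸ N.submoduleOf M)

lemma rl_of_le {N M : Submodule A V} (h : M ≤ N) : rl N M = 0 := by
  unfold rl
  rw [Module.length_eq_zero_iff, Submodule.Quotient.subsingleton_iff]
  rw [eq_top_iff]
  intro x _
  exact h x.2

lemma rl_self (M : Submodule A V) : rl M M = 0 := rl_of_le le_rfl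

lemma rl_add {Q N M : Submodule A V} (hQN : Q ≤ N) (hNM : N ≤ M) :
    rl Q M = rl Q N + rl N M := by
  unfold rl
  let f : (↥N ⧸ Q.submoduleOf N) →ₗ[A] (↥M ⧸ Q.submoduleOf M) :=
    Submodule.mapQ _ _ (Submodule.inclusion hNM) (by
      intro x hx
      exact hx)
  let g : (↥M ⧸ Q.submoduleOf M) →ₗ[A] (↥M ⧸ N.submoduleOf M) :=
    Submodule.mapQ _ _ LinearMap.id (by
      intro x hx
      exact hQN hx)
  have hfm : ∀ x, f (Submodule.Quotient.mk x) =
      Submodule.Quotient.mk (Submodule.inclusion hNM x) := fun x => rfl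
  have hgm : ∀ x, g (Submodule.Quotient.mk x) = Submodule.Quotient.mk x := fun x => rfl
  refine Module.length_eq_add_of_exact f g ?_ ?_ ?_
  · rw [← LinearMap.ker_eq_bot, LinearMap.ker_eq_bot']
    intro x hx
    obtain ⟨x, rfl⟩ := Submodule.Quotient.mk_surjective _ x
    rw [hfm, Submodule.Quotient.mk_eq_zero] at hx
    rw [Submodule.Quotient.mk_eq_zero]
    exact hx
  · intro y
    obtain ⟨y, rfl⟩ := Submodule.Quotient.mk_surjective _ y
    exact ⟨Submodule.Quotient.mk y, rfl⟩
  · intro y
    obtain ⟨y, rfl⟩ := Submodule.Quotient.mk_surjective _ y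
    constructor
    · intro hy
      rw [hgm, Submodule.Quotient.mk_eq_zero] at hy
      have hy' : (y : V) ∈ N := hy
      refine ⟨Submodule.Quotient.mk ⟨y, hy'⟩, ?_⟩
      rw [hfm]
      rfl
    · rintro ⟨x, hx⟩
      obtain ⟨x, rfl⟩ := Submodule.Quotient.mk_surjective _ x
      rw [← hx, hfm, hgm, Submodule.Quotient.mk_eq_zero]
      exact x.2

lemma rl_map {V' : Type v} [AddCommGroup V'] [Module A V'] (f : V →ₗ[A] V')
    (hf : Function.Injective f) (N M : Submodule A V) :
    rl (N.map f) (M.map f) = rl N M := by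
  unfold rl
  symm
  refine (Submodule.Quotient.equiv _ _ (Submodule.equivMapOfInjective f hf M) ?_).length_eq
  ext ⟨y, hy⟩
  constructor
  · rintro ⟨x, hx, hxy⟩
    have h1 : f x = y := congrArg Subtype.val hxy
    have hx' : (x : V) ∈ N := hx
    show y ∈ N.map f
    exact ⟨x, hx', h1⟩
  · intro h
    have h' : y ∈ N.map f := h
    obtain ⟨x, hxN, hxy⟩ := h'
    obtain ⟨m, hmM, hmy⟩ := hy
    have hxm : x = m := hf (hxy.trans hmy.symm)
    refine ⟨⟨x, hxm ▸ hmM⟩, hxN, ?_⟩
    apply Subtype.ext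
    exact hxy

/-- a finitely generated module killed by an element of finite order has finite length -/
lemma length_ne_top_of_smul_eq_zero {Q : Type v} [AddCommGroup Q] [Module A Q]
    [Module.Finite A Q] (b : A) (hb : Ring.ord A b ≠ ⊤) (h : ∀ q : Q, b • q = 0) :
    Module.length A Q ≠ ⊤ := by
  obtain ⟨n, π, hπ⟩ := Module.Finite.exists_fin' A Q
  let T : (Fin n → A) →ₗ[A] (Fin n → A) := Matrix.toLin' (b • (1 : Matrix (Fin n) (Fin n) A))
  have hT : ∀ x, T x = b • x := by
    intro x
    simp [T, Matrix.toLin'_apply, Matrix.smul_mulVec]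
  have hker : LinearMap.range T ≤ LinearMap.ker π := by
    rintro _ ⟨x, rfl⟩
    rw [LinearMap.mem_ker, hT, map_smul, h]
  let π' : ((Fin n → A) ⧸ LinearMap.range T) →ₗ[A] Q := Submodule.liftQ _ π hker
  have hπ' : Function.Surjective π' := by
    intro q
    obtain ⟨x, rfl⟩ := hπ q
    exact ⟨Submodule.Quotient.mk x, rfl⟩
  have h1 := Module.length_le_of_surjective π' hπ'
  have h2 : Module.length A ((Fin n → A) ⧸ LinearMap.range T) =
      Fintype.card (Fin n) • Ring.ord A b := DetLen.cl_smul_one b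
  intro htop
  rw [htop, h2, top_le_iff] at h1
  exact DetLen.nsmul_ord_ne_top _ _ hb h1

end RL

section Lat

variable {A : Type u} [CommRing A] [IsDomain A] {K : Type u} [Field K] [Algebra A K]
  [IsFractionRing A K] {V : Type v} [AddCommGroup V] [Module K V] [Module A V]
  [IsScalarTower A K V]

lemma exists_smul_mem_of_mem_span (N : Submodule A V) (x : V)
    (hx : x ∈ Submodule.span K (N : Set V)) : ∃ b : A, b ≠ 0 ∧ b • x ∈ N := by
  induction hx using Submodule.span_induction with
  | mem x hx => exact ⟨1, one_ne_zero, by rwa [one_smul]⟩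
  | zero => exact ⟨1, one_ne_zero, by rw [smul_zero]; exact N.zero_mem⟩
  | add x y _ _ hx hy =>
    obtain ⟨b, hb, hbx⟩ := hx
    obtain ⟨c, hc, hcy⟩ := hy
    refine ⟨b * c, mul_ne_zero hb hc, ?_⟩
    rw [smul_add]
    refine N.add_mem ?_ ?_
    · rw [mul_comm, mul_smul]; exact N.smul_mem c hbx
    · rw [mul_smul]; exact N.smul_mem b hcy
  | smul k x _ hx =>
    obtain ⟨b, hb, hbx⟩ := hx
    obtain ⟨a, s, hs, rfl⟩ := IsFractionRing.div_surjective (A := A) k
    have hs0 : s ≠ 0 := nonZeroDivisors.ne_zero hs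
    have hs0' : algebraMap A K s ≠ 0 :=
      (map_ne_zero_iff _ (IsFractionRing.injective A K)).2 hs0
    refine ⟨s * b, mul_ne_zero hs0 hb, ?_⟩
    have : (s * b) • ((algebraMap A K a / algebraMap A K s) • x) = a • (b • x) := by
      rw [← algebraMap_smul K (s * b), ← algebraMap_smul K a, ← algebraMap_smul K b, smul_smul,
        smul_smul, map_mul]
      congr 1
      field_simp
    rw [this]
    exact N.smul_mem a hbx

lemma exists_smul_le (N M : Submodule A V) (hM : M.FG)
    (hN : Submodule.span K (N : Set V) = ⊤) : ∃ b : A, b ≠ 0 ∧ ∀ m ∈ M, b • m ∈ N := by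
  induction M, hM using Submodule.fg_induction with
  | singleton x =>
    obtain ⟨b, hb, hbx⟩ := exists_smul_mem_of_mem_span N x (by rw [hN]; trivial)
    refine ⟨b, hb, ?_⟩
    intro m hm
    obtain ⟨c, rfl⟩ := Submodule.mem_span_singleton.1 hm
    rw [smul_comm]
    exact N.smul_mem c hbx
  | sup M₁ M₂ _ _ h₁ h₂ =>
    obtain ⟨b, hb, hb'⟩ := h₁
    obtain ⟨c, hc, hc'⟩ := h₂
    refine ⟨b * c, mul_ne_zero hb hc, ?_⟩
    intro m hm
    obtain ⟨m₁, hm₁, m₂, hm₂, rfl⟩ := Submodule.mem_sup.1 hm
    rw [smul_add]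
    refine N.add_mem ?_ ?_
    · rw [mul_comm, mul_smul]; exact N.smul_mem c (hb' m₁ hm₁)
    · rw [mul_smul]; exact N.smul_mem b (hc' m₂ hm₂)

variable [IsNoetherianRing A] [Ring.KrullDimLE 1 A]

lemma rl_ne_top {N M : Submodule A V} (hN : Submodule.IsLattice K N)
    (hM : Submodule.IsLattice K M) : rl N M ≠ ⊤ := by
  obtain ⟨b, hb, hbM⟩ := exists_smul_le N M hM.fg hN.span_eq_top
  haveI : Module.Finite A M := Module.Finite.iff_fg.mpr hM.fg
  refine length_ne_top_of_smul_eq_zero b
    (Ring.ord_ne_top (mem_nonZeroDivisors_of_ne_zero hb)) ?_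
  intro q
  obtain ⟨m, rfl⟩ := Submodule.Quotient.mk_surjective _ q
  rw [← Submodule.Quotient.mk_smul, Submodule.Quotient.mk_eq_zero]
  exact hbM m m.2

lemma isLattice_map (φ : V ≃ₗ[K] V) {M : Submodule A V} (hM : Submodule.IsLattice K M) :
    Submodule.IsLattice K (M.map (φ.toLinearMap.restrictScalars A)) := by
  refine ⟨Submodule.FG.map _ hM.fg, ?_⟩
  have h1 : ((M.map (φ.toLinearMap.restrictScalars A) : Submodule A V) : Set V) =
      φ.toLinearMap '' (M : Set V) := by
    ext x
    simp
  rw [h1, ← Submodule.map_span, hM.span_eq_top, Submodule.map_top, LinearMap.range_eq_top]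
  exact φ.surjective

lemma isLattice_inf {M N : Submodule A V} (hM : Submodule.IsLattice K M)
    (hN : Submodule.IsLattice K N) : Submodule.IsLattice K (M ⊓ N) := by
  constructor
  · haveI : Module.Finite A M := Module.Finite.iff_fg.mpr hM.fg
    haveI : IsNoetherian A M := isNoetherian_of_isNoetherianRing_of_finite A M
    haveI : IsNoetherian A ↥(M ⊓ N) := isNoetherian_of_le inf_le_left
    rw [← Module.Finite.iff_fg]
    infer_instance
  · rw [eq_top_iff]
    intro v _
    obtain ⟨b, hb, hbv⟩ := exists_smul_mem_of_mem_span M v (by rw [hM.span_eq_top]; trivial)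
    obtain ⟨c, hc, hcv⟩ := exists_smul_mem_of_mem_span N v (by rw [hN.span_eq_top]; trivial)
    have hmem : (b * c) • v ∈ M ⊓ N := by
      constructor
      · rw [mul_comm, mul_smul]; exact M.smul_mem c hbv
      · rw [mul_smul]; exact N.smul_mem b hcv
    have hbc : algebraMap A K (b * c) ≠ 0 :=
      (map_ne_zero_iff _ (IsFractionRing.injective A K)).2 (mul_ne_zero hb hc)
    have hv : v = (algebraMap A K (b * c))⁻¹ • ((b * c) • v) := by
      rw [← algebraMap_smul K (b * c) v, smul_smul, inv_mul_cancel₀ hbc, one_smul]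
    rw [hv]
    exact Submodule.smul_mem _ _ (Submodule.subset_span hmem)

/-- the distance of two lattices -/
noncomputable def dist (M N : Submodule A V) : ℤ :=
  ((rl (M ⊓ N) M).toNat : ℤ) - ((rl (M ⊓ N) N).toNat : ℤ)

lemma dist_eq_of_le {M N Q : Submodule A V} (hM : Submodule.IsLattice K M)
    (hN : Submodule.IsLattice K N) (hQ : Submodule.IsLattice K Q) (hQM : Q ≤ M) (hQN : Q ≤ N) :
    dist M N = ((rl Q M).toNat : ℤ) - ((rl Q N).toNat : ℤ) := by
  have hI := isLattice_inf hM hN
  have h1 : rl Q M = rl Q (M ⊓ N) + rl (M ⊓ N) M := rl_add (le_inf hQM hQN) inf_le_left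
  have h2 : rl Q N = rl Q (M ⊓ N) + rl (M ⊓ N) N := rl_add (le_inf hQM hQN) inf_le_right
  unfold dist
  rw [h1, h2, ENat.toNat_add (rl_ne_top hQ hI) (rl_ne_top hI hM),
    ENat.toNat_add (rl_ne_top hQ hI) (rl_ne_top hI hN)]
  push_cast
  ring

lemma dist_comm (M N : Submodule A V) : dist N M = - dist M N := by
  unfold dist
  rw [inf_comm N M]
  ring

lemma dist_self (M : Submodule A V) : dist M M = 0 := by
  unfold dist
  ring

lemma dist_triangle {M N P : Submodule A V} (hM : Submodule.IsLattice K M)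
    (hN : Submodule.IsLattice K N) (hP : Submodule.IsLattice K P) :
    dist M N + dist N P = dist M P := by
  have hQ : Submodule.IsLattice K (M ⊓ N ⊓ P) := isLattice_inf (isLattice_inf hM hN) hP
  have hQM : M ⊓ N ⊓ P ≤ M := inf_le_left.trans inf_le_left
  have hQN : M ⊓ N ⊓ P ≤ N := inf_le_left.trans inf_le_right
  have hQP : M ⊓ N ⊓ P ≤ P := inf_le_right
  rw [dist_eq_of_le hM hN hQ hQM hQN, dist_eq_of_le hN hP hQ hQN hQP,
    dist_eq_of_le hM hP hQ hQM hQP]
  ring

lemma dist_map (f : V →ₗ[A] V) (hf : Function.Injective f) (M N : Submodule A V) :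
    dist (M.map f) (N.map f) = dist M N := by
  unfold dist
  rw [← Submodule.map_inf f hf, rl_map f hf, rl_map f hf]

lemma dist_of_le {M N : Submodule A V} (h : N ≤ M) : dist M N = ((rl N M).toNat : ℤ) := by
  unfold dist
  rw [inf_eq_right.2 h, rl_self]
  simp

end Lat

end Groth.Agent.Lib.Helper6.LatDist
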