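import Mathlib
import Groth.Agent.Lib.Helper6.LatDist.LDa

/-!
# Distance of a lattice to its image under an automorphism is the order of the determinant (helper6)
-/

set_option autoImplicit false
set_option linter.unusedSectionVars false
set_option linter.unusedVariables false
set_option linter.unusedSimpArgs false
set_option linter.style.haveILetI false
set_option maxHeartbeats 400000

namespace Groth.Agent.Lib.Helper6.LatDist

universe u v

open Groth.Agent.Lib.Helper6 Groth.Agent.Lead.SecOrd

section Ord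

variable {A : Type u} [CommRing A] [IsDomain A] [IsNoetherianRing A] [Ring.KrullDimLE 1 A]
  {K : Type u} [Field K] [Algebra A K] [IsFractionRing A K]

lemma ordFrac_algebraMap (d : A) (hd : d ≠ 0) :
    CycAlg.ordFrac A K (algebraMap A K d) = ((Ring.ord A d).toNat : ℤ) := by
  rw [ordFrac_eq]
  have hnz : d ∈ nonZeroDivisors A := mem_nonZeroDivisors_of_ne_zero hd
  obtain ⟨m, hm⟩ := ENat.ne_top_iff_exists.mp (Ring.ord_ne_top hnz)
  rw [Ring.ordFrac_eq_ord A hd, Ring.ordMonoidWithZeroHom_eq_coe A hnz hm.symm, toZ_coe, ← hm]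
  simp

end Ord

section Free

variable {A : Type u} [CommRing A] [IsDomain A] [IsNoetherianRing A] [Ring.KrullDimLE 1 A]
  {K : Type u} [Field K] [Algebra A K] [IsFractionRing A K]
  {V : Type v} [AddCommGroup V] [Module K V] [Module A V] [IsScalarTower A K V]
  {n : ℕ} (b : Module.Basis (Fin n) K V)

/-- the free lattice spanned by a basis -/
def FL : Submodule A V := Submodule.span A (Set.range b)

lemma isLattice_FL : Submodule.IsLattice K (FL (A := A) b) := by
  refine ⟨Submodule.fg_span (Set.finite_range b), ?_⟩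
  unfold FL
  rw [Submodule.span_span_of_tower, b.span_eq]

lemma basis_mem_FL (i : Fin n) : b i ∈ FL (A := A) b := Submodule.subset_span ⟨i, rfl⟩

lemma map_FL_le (ψ : V →ₗ[K] V) (h : ∀ i, ψ (b i) ∈ FL (A := A) b) :
    (FL (A := A) b).map (ψ.restrictScalars A) ≤ FL b := by
  unfold FL
  rw [Submodule.map_span, Submodule.span_le]
  rintro _ ⟨_, ⟨i, rfl⟩, rfl⟩
  exact h i

lemma rl_map_free (ψ : V →ₗ[K] V) (h : ∀ i, ψ (b i) ∈ FL (A := A) b)
    (hdet : LinearMap.det ψ ≠ 0) :
    ∃ d : A, d ≠ 0 ∧ algebraMap A K d = LinearMap.det ψ ∧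
      rl ((FL (A := A) b).map (ψ.restrictScalars A)) (FL b) = Ring.ord A d := by
  classical
  haveI : Module.IsTorsionFree A K := inferInstance
  let bF : Module.Basis (Fin n) A (FL (A := A) b) := b.restrictScalars A
  have hmap : ∀ x ∈ FL (A := A) b, (ψ.restrictScalars A) x ∈ FL (A := A) b := by
    intro x hx
    exact map_FL_le b ψ h ⟨x, hx, rfl⟩
  let L : FL (A := A) b →ₗ[A] FL (A := A) b := (ψ.restrictScalars A).restrict hmap
  have hL : ∀ x, ((L x : FL (A := A) b) : V) = ψ (x : V) := fun x => rfl
  let Mat := LinearMap.toMatrix bF bF L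
  have hMat : Mat.map (algebraMap A K) = LinearMap.toMatrix b b ψ := by
    ext i j
    have hM1 : Mat i j = bF.repr (L (bF j)) i := LinearMap.toMatrix_apply bF bF L i j
    rw [Matrix.map_apply, LinearMap.toMatrix_apply, hM1]
    have hr : algebraMap A K (bF.repr (L (bF j)) i) = b.repr ((L (bF j) : FL (A := A) b) : V) i :=
      Module.Basis.restrictScalars_repr_apply A b (L (bF j)) i
    have hbj : ((bF j : FL (A := A) b) : V) = b j := Module.Basis.restrictScalars_apply A b j
    rw [hr, hL, hbj]
  have hd : algebraMap A K Mat.det = LinearMap.det ψ := by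
    rw [RingHom.map_det, RingHom.mapMatrix_apply, hMat, LinearMap.det_toMatrix]
  have hd0 : Mat.det ≠ 0 := by
    intro h0
    rw [h0, map_zero] at hd
    exact hdet hd.symm
  refine ⟨Mat.det, hd0, hd, ?_⟩
  have hrange : ((FL (A := A) b).map (ψ.restrictScalars A)).submoduleOf (FL b) =
      LinearMap.range L := by
    ext ⟨y, hy⟩
    constructor
    · intro hmem
      have hmem' : y ∈ (FL (A := A) b).map (ψ.restrictScalars A) := hmem
      obtain ⟨x, hx, hxy⟩ := hmem'
      exact ⟨⟨x, hx⟩, Subtype.ext hxy⟩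
    · rintro ⟨x, hx⟩
      show y ∈ (FL (A := A) b).map (ψ.restrictScalars A)
      exact ⟨x, x.2, congrArg Subtype.val hx⟩
  unfold rl
  rw [hrange, DetLen.length_coker_basis bF bF L]
  exact DetLen.cl_eq_ord Mat (mem_nonZeroDivisors_of_ne_zero hd0)

lemma dist_free_of_le (ψ : V ≃ₗ[K] V) (h : ∀ i, ψ (b i) ∈ FL (A := A) b) :
    dist (FL (A := A) b) ((FL (A := A) b).map (ψ.toLinearMap.restrictScalars A)) =
      CycAlg.ordFrac A K (LinearMap.det ψ.toLinearMap) := by
  have hdet : LinearMap.det ψ.toLinearMap ≠ 0 := (LinearEquiv.isUnit_det' ψ).ne_zero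
  obtain ⟨d, hd0, hd, hrl⟩ := rl_map_free b ψ.toLinearMap h hdet
  rw [dist_of_le (map_FL_le b ψ.toLinearMap h), hrl, ← hd, ordFrac_algebraMap d hd0]

lemma restrictScalars_injective (φ : V ≃ₗ[K] V) :
    Function.Injective (φ.toLinearMap.restrictScalars A) := φ.injective

lemma dist_free (φ : V ≃ₗ[K] V) :
    dist (FL (A := A) b) ((FL (A := A) b).map (φ.toLinearMap.restrictScalars A)) =
      CycAlg.ordFrac A K (LinearMap.det φ.toLinearMap) := by
  have hF := isLattice_FL (A := A) b
  have hφF := isLattice_map φ hF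
  obtain ⟨a, ha, haF⟩ := exists_smul_le (FL (A := A) b)
    ((FL (A := A) b).map (φ.toLinearMap.restrictScalars A)) hφF.fg hF.span_eq_top
  have ha' : algebraMap A K a ≠ 0 := (map_ne_zero_iff _ (IsFractionRing.injective A K)).2 ha
  let σ : V ≃ₗ[K] V := LinearEquiv.smulOfNeZero K V (algebraMap A K a) ha'
  have hσ : ∀ x, σ x = a • x := fun x => by
    show algebraMap A K a • x = a • x
    rw [algebraMap_smul]
  let ψ : V ≃ₗ[K] V := φ.trans σ
  have hψ : ∀ x, ψ x = a • φ x := fun x => hσ (φ x)
  have h1 : ∀ i, ψ (b i) ∈ FL (A := A) b := by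
    intro i
    rw [hψ]
    exact haF _ ⟨b i, basis_mem_FL b i, rfl⟩
  have h2 : ∀ i, σ (b i) ∈ FL (A := A) b := by
    intro i
    rw [hσ]
    exact (FL (A := A) b).smul_mem a (basis_mem_FL b i)
  have e1 := dist_free_of_le b ψ h1
  have e2 := dist_free_of_le b σ h2
  have hmapψ : (FL (A := A) b).map (ψ.toLinearMap.restrictScalars A) =
      ((FL (A := A) b).map (φ.toLinearMap.restrictScalars A)).map
        (σ.toLinearMap.restrictScalars A) := by
    rw [← Submodule.map_comp]
    rfl
  have hσF := isLattice_map σ hF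
  have hσφF := isLattice_map σ hφF
  have tri := dist_triangle hF hσF hσφF
  rw [dist_map (σ.toLinearMap.restrictScalars A) (restrictScalars_injective σ), ← hmapψ,
    e1, e2] at tri
  have hdet : LinearMap.det ψ.toLinearMap =
      LinearMap.det σ.toLinearMap * LinearMap.det φ.toLinearMap := by
    rw [← LinearMap.det_comp]
    rfl
  rw [hdet, ordFrac_mul A K (LinearEquiv.isUnit_det' σ).ne_zero
    (LinearEquiv.isUnit_det' φ).ne_zero] at tri
  linarith

end Free

section Main

variable {A : Type u} [CommRing A] [IsDomain A] [IsNoetherianRing A] [Ring.KrullDimLE 1 A]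
  {K : Type u} [Field K] [Algebra A K] [IsFractionRing A K]
  {V : Type v} [AddCommGroup V] [Module K V] [Module A V] [IsScalarTower A K V]
  [FiniteDimensional K V]

lemma exists_basis_mem {M : Submodule A V} (hM : Submodule.IsLattice K M) :
    ∃ (n : ℕ) (b : Module.Basis (Fin n) K V), ∀ i, b i ∈ M := by
  classical
  obtain ⟨s, hsM, hspan, hli⟩ := exists_linearIndependent K (M : Set V)
  have htop : ⊤ ≤ Submodule.span K (Set.range (Subtype.val : s → V)) := by
    rw [Subtype.range_coe, hspan, hM.span_eq_top]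
  let B : Module.Basis s K V := Module.Basis.mk hli htop
  haveI : Fintype s := FiniteDimensional.fintypeBasisIndex B
  let e : s ≃ Fin (Fintype.card s) := Fintype.equivFin s
  refine ⟨Fintype.card s, B.reindex e, ?_⟩
  intro i
  rw [Module.Basis.reindex_apply, Module.Basis.mk_apply]
  exact hsM (e.symm i).2

/-- **Main theorem**: `d(M, φ M) = ord (det φ)` -/
theorem dist_lattice {M : Submodule A V} (hM : Submodule.IsLattice K M) (φ : V ≃ₗ[K] V) :
    dist M (M.map (φ.toLinearMap.restrictScalars A)) =
      CycAlg.ordFrac A K (LinearMap.det φ.toLinearMap) := by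
  obtain ⟨n, b, hb⟩ := exists_basis_mem hM
  have hF := isLattice_FL (A := A) b
  have hφF := isLattice_map φ hF
  have hφM := isLattice_map φ hM
  have t1 := dist_triangle hM hF hφF
  have t2 := dist_triangle hM hφF hφM
  have t3 := dist_map (φ.toLinearMap.restrictScalars A) (restrictScalars_injective φ)
    (FL (A := A) b) M
  have t4 := dist_comm M (FL (A := A) b)
  have t5 := dist_free (A := A) b φ
  linarith

end Main

end Groth.Agent.Lib.Helper6.LatDist
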