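import Mathlib
import Groth.Agent.Lib.Helper6.LatDist.LDb

/-!
# `length_A (B / rB) = ord (N(r))` for a finite extension of a one-dimensional domain (helper6)
-/

set_option autoImplicit false
set_option linter.unusedSectionVars false
set_option linter.unusedVariables false
set_option linter.unusedSimpArgs false
set_option linter.style.haveILetI false
set_option maxHeartbeats 400000

namespace Groth.Agent.Lib.Helper6.LatDist

universe u

section Norm

variable {A : Type u} [CommRing A] [IsDomain A] [IsNoetherianRing A] [Ring.KrullDimLE 1 A]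
  {B : Type u} [CommRing B] [IsDomain B] [Algebra A B] [Module.Finite A B]
  {K L : Type u} [Field K] [Field L] [Algebra A K] [IsFractionRing A K] [Algebra B L]
  [IsFractionRing B L] [Algebra K L] [Algebra A L] [IsScalarTower A B L] [IsScalarTower A K L]
  [FiniteDimensional K L]

theorem length_quotient_span_eq_ordFrac_norm (r : B) (hr : r ≠ 0) :
    Module.length A (B ⧸ Ideal.span {r}) ≠ ⊤ ∧
      ((Module.length A (B ⧸ Ideal.span {r})).toNat : ℤ) =
        CycAlg.ordFrac A K (Algebra.norm K (algebraMap B L r)) := by
  classical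
  let ι : B →ₗ[A] L := (IsScalarTower.toAlgHom A B L).toLinearMap
  have hιa : ∀ x, ι x = algebraMap B L x := fun x => rfl
  have hι : Function.Injective ι := IsFractionRing.injective B L
  let M : Submodule A L := LinearMap.range ι
  haveI : Algebra.IsIntegral A B := Algebra.IsIntegral.of_finite A B
  haveI : Algebra.IsAlgebraic A B := inferInstance
  have hM : Submodule.IsLattice K M := by
    constructor
    · show (LinearMap.range ι).FG
      rw [LinearMap.range_eq_map]
      exact Submodule.FG.map _ Module.Finite.fg_top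
    · rw [eq_top_iff]
      intro x _
      obtain ⟨b, c, hc, rfl⟩ := IsFractionRing.div_surjective (A := B) x
      have hc0 : c ≠ 0 := nonZeroDivisors.ne_zero hc
      obtain ⟨c', d, hd, hdb⟩ := Algebra.IsAlgebraic.exists_smul_eq_mul A b hc0
      have hd' : algebraMap A K d ≠ 0 :=
        (map_ne_zero_iff _ (IsFractionRing.injective A K)).2 hd
      have hc' : algebraMap B L c ≠ 0 :=
        (map_ne_zero_iff _ (IsFractionRing.injective B L)).2 hc0
      have h1 : d • algebraMap B L b = algebraMap B L c * algebraMap B L c' := by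
        rw [← map_mul, ← hdb]
        exact (ι.map_smul d b).symm
      have h2 : algebraMap B L b / algebraMap B L c = (algebraMap A K d)⁻¹ • ι c' := by
        rw [hιa, div_eq_iff hc', eq_comm]
        have h3 : algebraMap A K d • algebraMap B L b =
            algebraMap B L c * algebraMap B L c' := by
          rw [algebraMap_smul]; exact h1
        rw [smul_mul_assoc, mul_comm, ← h3, smul_smul, inv_mul_cancel₀ hd', one_smul]
      rw [h2]
      exact Submodule.smul_mem _ _ (Submodule.subset_span ⟨c', rfl⟩)
  set ρ : L := algebraMap B L r with hρdef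
  have hρ : ρ ≠ 0 := (map_ne_zero_iff _ (IsFractionRing.injective B L)).2 hr
  let φ : L ≃ₗ[K] L := LinearEquiv.ofLinearMap (LinearMap.mulLeft K ρ) (LinearMap.mulLeft K ρ⁻¹)
    (by ext x; simp [mul_inv_cancel_left₀ hρ]) (by ext x; simp [inv_mul_cancel_left₀ hρ])
  have hφ : ∀ x, φ x = ρ * x := fun x => rfl
  have hdet : LinearMap.det φ.toLinearMap = Algebra.norm K ρ := by
    rw [Algebra.norm_apply]
    rfl
  have hle : M.map (φ.toLinearMap.restrictScalars A) ≤ M := by
    rintro _ ⟨_, ⟨b, rfl⟩, rfl⟩
    refine ⟨r * b, ?_⟩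
    show ι (r * b) = ρ * ι b
    rw [hιa, hιa, map_mul]
  have hmain := dist_lattice hM φ
  rw [dist_of_le hle, hdet] at hmain
  have hfin := rl_ne_top (isLattice_map φ hM) hM
  -- identify the quotient
  let e : B ≃ₗ[A] M := LinearEquiv.ofInjective ι hι
  have he : ∀ x, ((e x : M) : L) = ι x := fun x => rfl
  have hmap : ((Ideal.span {r} : Ideal B).restrictScalars A).map (e : B →ₗ[A] M) =
      (M.map (φ.toLinearMap.restrictScalars A)).submoduleOf M := by
    ext ⟨y, hy⟩
    constructor
    · rintro ⟨x, hx, hxy⟩
      have hx' : x ∈ Ideal.span {r} := hx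
      obtain ⟨t, rfl⟩ := Ideal.mem_span_singleton'.1 hx'
      show y ∈ M.map (φ.toLinearMap.restrictScalars A)
      refine ⟨ι t, ⟨t, rfl⟩, ?_⟩
      have h1 : ι (t * r) = y := congrArg Subtype.val hxy
      rw [← h1]
      show ρ * ι t = ι (t * r)
      rw [hιa, hιa, map_mul, mul_comm]
    · intro h
      have h' : y ∈ M.map (φ.toLinearMap.restrictScalars A) := h
      obtain ⟨_, ⟨t, rfl⟩, hty⟩ := h'
      refine ⟨t * r, Ideal.mem_span_singleton'.2 ⟨t, rfl⟩, ?_⟩
      apply Subtype.ext
      show ι (t * r) = y
      rw [← hty]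
      show ι (t * r) = ρ * ι t
      rw [hιa, hιa, map_mul, mul_comm]
  have hlen : Module.length A (B ⧸ Ideal.span {r}) =
      rl (M.map (φ.toLinearMap.restrictScalars A)) M := by
    unfold rl
    rw [← (Submodule.Quotient.restrictScalarsEquiv A (Ideal.span {r} : Ideal B)).length_eq]
    exact (Submodule.Quotient.equiv _ _ e hmap).length_eq
  rw [hlen]
  exact ⟨hfin, hmain⟩

end Norm

end Groth.Agent.Lib.Helper6.LatDist
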